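import Groth.Agent.KVbLib.Twist
import Groth.Agent.AmpleLib.Tensor
import Groth.Agent.S0002
import Groth.Agent.CurveLib.Inv

/-!
# The Frobenius pullback of sections of an invertible module and its splitting
-/

set_option autoImplicit false
set_option backward.isDefEq.respectTransparency false
set_option linter.style.haveILetI false
set_option linter.unusedSectionVars false

universe u

open CategoryTheory CategoryTheory.Limits AlgebraicGeometry TopologicalSpace Opposite
open Groth.Agent.PullbackMod Groth.Agent.DCohLib Groth.Agent.ExtSeq Groth.Agent.KVb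

noncomputable section

namespace Groth.Agent.FrobSplitLib

variable {X : Scheme.{u}} {L : X.Modules} (p : ℕ)

/-- A generator of every stalk generates every section group. -/
theorem gen_of_isGen {M : X.Modules} {V : X.Opens} {e : Γ(M, V)} (he : IsGen M e) : ParaFLib.Gen V e :=
  AmpleLib.gen_of_germ he

theorem bijective_smul {M : X.Modules} {V : X.Opens} {e : Γ(M, V)} (he : IsGen M e) :
    Function.Bijective fun b : Γ(X, V) => b • e := by
  have h := gen_of_isGen he V le_rfl
  have hid : M.presheaf.map (homOfLE (le_refl V)).op e = e := ConcreteCategory.congr_hom (M.presheaf.map_id _) e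
  rw [hid] at h
  exact h

theorem exists_isGen_le (hL : PicF.IsInvertible L) (U : X.Opens) {x : X} (hx : x ∈ U) :
    ∃ (V : X.Opens) (_ : V ≤ U) (e : Γ(L, V)), x ∈ V ∧ IsGen L e := by
  obtain ⟨W, e, hxW, he⟩ := ParaFLib.exists_gen_nhd hL x
  exact ⟨W ⊓ U, inf_le_right, rs L inf_le_left e, ⟨hxW, hx⟩, isGen_rs _ fun y hy => he.bijective_germ y hy⟩

theorem eq_of_local {M : X.Modules} {U : X.Opens} (a b : Γ(M, U))
    (h : ∀ x ∈ U, ∃ (V : X.Opens) (hV : V ≤ U), x ∈ V ∧ rs M hV a = rs M hV b) : a = b := by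
  refine TopCat.Presheaf.section_ext (⟨M.presheaf, M.isSheaf⟩ : TopCat.Sheaf Ab X) U a b fun x hx => ?_
  obtain ⟨V, hV, hxV, he⟩ := h x hx
  show M.presheaf.germ U x hx a = M.presheaf.germ U x hx b
  rw [← TopCat.Presheaf.germ_res_apply M.presheaf (homOfLE hV) x hxV a,
    ← TopCat.Presheaf.germ_res_apply M.presheaf (homOfLE hV) x hxV b]
  exact congrArg _ he

/-- The `p`-th power is additive in characteristic `p`. -/
theorem powS_add (hL : PicF.IsInvertible L) (hadd : ∀ (V : X.Opens) (a b : Γ(X, V)), (a + b) ^ p = a ^ p + b ^ p)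
    {U : X.Opens} (σ τ : Γ(L, U)) : powS L (σ + τ) p = powS L σ p + powS L τ p := by
  refine eq_of_local _ _ fun x hx => ?_
  obtain ⟨V, hV, e, hxV, he⟩ := exists_isGen_le hL U hx
  refine ⟨V, hV, hxV, ?_⟩
  obtain ⟨a, ha⟩ := (bijective_smul he).2 (rs L hV σ)
  obtain ⟨b, hb⟩ := (bijective_smul he).2 (rs L hV τ)
  dsimp only at ha hb
  have h1 : rs L hV (σ + τ) = rs L hV σ + rs L hV τ := map_add (L.presheaf.map (homOfLE hV).op).hom σ τ
  have h2 : rs (CohB1.tensorPow L p) hV (powS L σ p + powS L τ p) =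
      rs (CohB1.tensorPow L p) hV (powS L σ p) + rs (CohB1.tensorPow L p) hV (powS L τ p) :=
    map_add ((CohB1.tensorPow L p).presheaf.map (homOfLE hV).op).hom _ _
  rw [h2, rs_powS, rs_powS, rs_powS, h1, ← ha, ← hb, ← add_smul, powS_smul, powS_smul, powS_smul,
    hadd, add_smul]

variable (hL : PicF.IsInvertible L) (hadd : ∀ (V : X.Opens) (a b : Γ(X, V)), (a + b) ^ p = a ^ p + b ^ p)

/-- The power map `L ⟶ L^⊗p`. -/
def Φ : Coh.toAb L ⟶ Coh.toAb (CohB1.tensorPow L p) :=
  ⟨{ app := fun U => AddCommGrpCat.ofHom (AddMonoidHom.mk'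
      (fun σ : Γ(L, U.unop) => (show Γ(CohB1.tensorPow L p, U.unop) from powS L σ p))
      (fun σ τ => powS_add p hL hadd σ τ))
     naturality := fun U V f => by
      ext σ
      exact (rs_powS L f.unop.le σ p).symm }⟩

/-- A retraction of the power map on functions, on sections. -/
abbrev sapp (s : Coh.toAb (Coh.structureModule X) ⟶ Coh.toAb (Coh.structureModule X)) (V : X.Opens)
    (b : Γ(X, V)) : Γ(X, V) :=
  s.hom.app (op V) b

variable (s : Coh.toAb (Coh.structureModule X) ⟶ Coh.toAb (Coh.structureModule X))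

/-- `σ` is the image of `w` under the splitting. -/
def IsRoot {U : X.Opens} (w : Γ(CohB1.tensorPow L p, U)) (σ : Γ(L, U)) : Prop :=
  ∀ (V : X.Opens) (h : V ≤ U) (e : Γ(L, V)), IsGen L e → ∀ b : Γ(X, V),
    rs (CohB1.tensorPow L p) h w = b • powS L e p → rs L h σ = sapp s V b • e

variable {s} {U : X.Opens}

include hL in
theorem isRoot_unique {w : Γ(CohB1.tensorPow L p, U)} {σ σ' : Γ(L, U)}
    (h : IsRoot p s w σ) (h' : IsRoot p s w σ') : σ = σ' := by
  refine eq_of_local _ _ fun x hx => ?_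
  obtain ⟨V, hV, e, hxV, he⟩ := exists_isGen_le hL U hx
  obtain ⟨b, hb⟩ := (bijective_smul (isGen_powS L he p)).2 (rs (CohB1.tensorPow L p) hV w)
  exact ⟨V, hV, hxV, (h V hV e he b hb.symm).trans (h' V hV e he b hb.symm).symm⟩

variable (hlin : ∀ (U : X.Opens) (a b : Γ(X, U)),
  s.hom.app (op U) (a ^ p * b) = a * @id Γ(X, U) (s.hom.app (op U) b))

theorem sapp_res {V W : X.Opens} (h : W ≤ V) (b : Γ(X, V)) :
    X.presheaf.map (homOfLE h).op (sapp s V b) = sapp s W (X.presheaf.map (homOfLE h).op b) :=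
  (ConcreteCategory.congr_hom (s.hom.naturality (homOfLE h).op) b).symm

include hL hlin in
theorem exists_isRoot (w : Γ(CohB1.tensorPow L p, U)) : ∃ σ, IsRoot p s w σ := by
  classical
  let ι := Σ' (V : X.Opens) (_ : V ≤ U), { e : Γ(L, V) // IsGen L e }
  have hb : ∀ i : ι, ∃ b : Γ(X, i.1), rs (CohB1.tensorPow L p) i.2.1 w = b • powS L i.2.2.1 p := fun i => by
    obtain ⟨b, hb⟩ := (bijective_smul (isGen_powS L i.2.2.2 p)).2 (rs (CohB1.tensorPow L p) i.2.1 w)
    exact ⟨b, hb.symm⟩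
  choose b hb using hb
  let sf : ∀ i : ι, Γ(L, i.1) := fun i => sapp s i.1 (b i) • i.2.2.1
  obtain ⟨σ, hσ, -⟩ := TopCat.Sheaf.existsUnique_gluing' (⟨L.presheaf, L.isSheaf⟩ : TopCat.Sheaf Ab X)
    (fun i : ι => i.1) U (fun i => homOfLE i.2.1)
    (fun x hx => by
      obtain ⟨V, hV, e, hxV, he⟩ := exists_isGen_le hL U hx
      exact Opens.mem_iSup.2 ⟨⟨V, hV, e, he⟩, hxV⟩) sf (fun i j => by
      let W : X.Opens := i.1 ⊓ j.1
      show rs L (inf_le_left : W ≤ i.1) (sf i) = rs L (inf_le_right : W ≤ j.1) (sf j)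
      have hgi := isGen_rs (inf_le_left : W ≤ i.1) i.2.2.2
      obtain ⟨a, ha⟩ := (bijective_smul hgi).2 (rs L (inf_le_right : W ≤ j.1) j.2.2.1)
      dsimp only at ha
      have hi := congrArg (rs (CohB1.tensorPow L p) (inf_le_left : W ≤ i.1)) (hb i)
      have hj := congrArg (rs (CohB1.tensorPow L p) (inf_le_right : W ≤ j.1)) (hb j)
      rw [rs_rs, rs_smul, rs_powS] at hi hj
      rw [hi, ← ha, powS_smul, smul_smul] at hj
      have hab := (bijective_smul (isGen_powS L hgi p)).1 hj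
      show rs L _ (sapp s i.1 (b i) • _) = rs L _ (sapp s j.1 (b j) • _)
      rw [rs_smul, rs_smul, sapp_res, sapp_res, ← ha, smul_smul, hab, mul_comm _ (a ^ p)]
      refine congrArg (· • _) ((hlin W a _).trans ?_)
      exact mul_comm a _)
  refine ⟨σ, fun V h e he c hc => ?_⟩
  refine (hσ ⟨V, h, e, he⟩).trans ?_
  show sapp s V (b ⟨V, h, e, he⟩) • e = sapp s V c • e
  rw [(bijective_smul (isGen_powS L he p)).1 ((hb ⟨V, h, e, he⟩).symm.trans hc)]

/-- The root of a section. -/
def rootS (w : Γ(CohB1.tensorPow L p, U)) : Γ(L, U) := (exists_isRoot p hL hlin w).choose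

theorem isRoot_rootS (w : Γ(CohB1.tensorPow L p, U)) : IsRoot p s w (rootS p hL hlin w) :=
  (exists_isRoot p hL hlin w).choose_spec

theorem rootS_add (w w' : Γ(CohB1.tensorPow L p, U)) :
    rootS p hL hlin (w + w') = rootS p hL hlin w + rootS p hL hlin w' := by
  refine isRoot_unique p hL (s := s) (isRoot_rootS p hL hlin _) fun V h e he c hc => ?_
  have hg := bijective_smul (isGen_powS L he p)
  obtain ⟨b, hb⟩ := hg.2 (rs (CohB1.tensorPow L p) h w)
  obtain ⟨b', hb'⟩ := hg.2 (rs (CohB1.tensorPow L p) h w')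
  have h2 : rs (CohB1.tensorPow L p) h (w + w') =
      rs (CohB1.tensorPow L p) h w + rs (CohB1.tensorPow L p) h w' :=
    map_add ((CohB1.tensorPow L p).presheaf.map (homOfLE h).op).hom _ _
  have hcb : c = b + b' := hg.1 (by
    show c • _ = (b + b') • _
    rw [← hc, h2, ← hb, ← hb', add_smul])
  have h1 : rs L h (rootS p hL hlin w + rootS p hL hlin w') = rs L h (rootS p hL hlin w) + rs L h (rootS p hL hlin w') :=
    map_add (L.presheaf.map (homOfLE h).op).hom _ _
  rw [h1, isRoot_rootS p hL hlin w V h e he b hb.symm, isRoot_rootS p hL hlin w' V h e he b' hb'.symm, hcb,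
    ← add_smul]
  exact congrArg (· • e) (map_add (s.hom.app (op V)).hom b b').symm

theorem rootS_res {W : X.Opens} (h : W ≤ U) (w : Γ(CohB1.tensorPow L p, U)) :
    rootS p hL hlin (rs (CohB1.tensorPow L p) h w) = rs L h (rootS p hL hlin w) := by
  refine isRoot_unique p hL (s := s) (isRoot_rootS p hL hlin _) fun V hV e he c hc => ?_
  rw [rs_rs] at hc ⊢
  exact isRoot_rootS p hL hlin w V _ e he c hc

/-- The splitting `L^⊗p ⟶ L`. -/
def Ψ : Coh.toAb (CohB1.tensorPow L p) ⟶ Coh.toAb L :=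
  ⟨{ app := fun U => AddCommGrpCat.ofHom (AddMonoidHom.mk'
      (fun w : Γ(CohB1.tensorPow L p, U.unop) => (show Γ(L, U.unop) from rootS p hL hlin w))
      (fun w w' => rootS_add p hL hlin w w'))
     naturality := fun U V f => by
      ext w
      exact rootS_res p hL hlin f.unop.le w }⟩

variable (φ : Coh.toAb (Coh.structureModule X) ⟶ Coh.toAb (Coh.structureModule X))
  (hφ : ∀ (U : X.Opens) (t : Γ(X, U)), φ.hom.app (op U) t = t ^ p) (hs : φ ≫ s = 𝟙 _)

include hφ hs in
theorem sapp_pow (V : X.Opens) (a : Γ(X, V)) : sapp s V (a ^ p) = a := by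
  have h := congrArg (fun t : Coh.toAb (Coh.structureModule X) ⟶ Coh.toAb (Coh.structureModule X) => (t.hom.app (op V)).hom a) hs
  show s.hom.app (op V) (a ^ p) = a
  rw [← hφ V a]
  exact h

include hL hφ hs in
theorem isRoot_powS (σ : Γ(L, U)) : IsRoot p s (powS L σ p) σ := fun V h e he c hc => by
  obtain ⟨a, ha⟩ := (bijective_smul he).2 (rs L h σ)
  dsimp only at ha
  rw [rs_powS, ← ha, powS_smul] at hc
  rw [← ha, ← (bijective_smul (isGen_powS L he p)).1 hc, sapp_pow p φ hφ hs]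

include hφ hs in
theorem Φ_Ψ : Φ p hL hadd ≫ Ψ p hL hlin = 𝟙 _ := by
  ext U σ
  exact isRoot_unique p hL (s := s) (isRoot_rootS p hL hlin _) (isRoot_powS p hL φ hφ hs σ)

theorem smulAb_Φ (r : Coh.Γtop X) :
    Coh.smulAb L r ≫ Φ p hL hadd = Φ p hL hadd ≫ Coh.smulAb (CohB1.tensorPow L p) (r ^ p) := by
  ext U σ
  change (Φ p hL hadd).hom.app U ((Coh.smulAb L r).hom.app U σ) =
    (Coh.smulAb (CohB1.tensorPow L p) (r ^ p)).hom.app U ((Φ p hL hadd).hom.app U σ)
  rw [Coh.smulAb_app, Coh.smulAb_app, map_pow]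
  exact powS_smul L (U := U.unop) (show Γ(X, U.unop) from Coh.resTop X U r) (show Γ(L, U.unop) from σ) p

include hφ in
theorem add_pow_of_frob (V : X.Opens) (a b : Γ(X, V)) : (a + b) ^ p = a ^ p + b ^ p := by
  rw [← hφ V, ← hφ V, ← hφ V]
  exact map_add (φ.hom.app (op V)).hom a b

section Over

variable (k : Type u) [Field k] [X.Over (Spec (CommRingCat.of k))]

/-- The induced map on cohomology. -/
def frobHH (i : ℕ) : Coh.HH X L i →+ Coh.HH X (CohB1.tensorPow L p) i :=
  AddMonoidHom.mk' (fun x => Sheaf.H.map (Φ p hL hadd) i x) fun x y => map_add _ x y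

theorem frobHH_smul (i : ℕ) (c : k) (x : Coh.HH X L i) :
    frobHH p hL hadd i (c • x) = c ^ p • frobHH p hL hadd i x := by
  let g := Coh.toGlobal (X ↘ Spec (CommRingCat.of k))
  show Sheaf.H.map (Φ p hL hadd) i (Sheaf.H.map (Coh.smulAb _ (g c)) i x) =
    Sheaf.H.map (Coh.smulAb _ (g (c ^ p))) i (Sheaf.H.map (Φ p hL hadd) i x)
  rw [← Sheaf.H.map_comp_apply, smulAb_Φ p hL hadd (g c), Sheaf.H.map_comp_apply, map_pow g]

include hlin hφ hs in
theorem frobHH_injective (i : ℕ) : Function.Injective (frobHH p hL hadd i) :=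
  Function.LeftInverse.injective (g := fun x => Sheaf.H.map (Ψ p hL hlin) i x) fun x => by
    show Sheaf.H.map (Ψ p hL hlin) i (Sheaf.H.map (Φ p hL hadd) i x) = x
    rw [← Sheaf.H.map_comp_apply, Φ_Ψ p hL hadd hlin φ hφ hs, Sheaf.H.map_id_apply]

end Over

end Groth.Agent.FrobSplitLib
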